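import Cfsg.Agent.Lib.Recog.J1FromOrder.Two
import Cfsg.Agent.Lib.Recog.J1Order.Data
import Cfsg.Agent.Lib.Recog.SimpleSixty
import Cfsg.Prelude.Def_SporadicB

/-!
Owner: helper29. The centraliser of an involution in a simple group of order `175560` is `Z₂ × A₅`.
-/

set_option autoImplicit false
set_option maxRecDepth 20000

namespace CfsgLib.Recog.J1FromOrder

open Subgroup CfsgLib.Orders175560 CfsgLib.Recog.J1Order
open scoped Pointwise

/-- The possible rows of a centraliser of order `m`. -/
def localCands (q cG rG m : ℕ) : List Row :=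
  (divs.filter fun n => (m / q) % n == 0 && n % q == 1 && (rG == 0 || rG % (m / q / n) == 0)).flatMap fun n =>
    ((divs.filter fun c => c % 2 == 0 && cG % c == 0 && (m / q / n) % c == 0 && (q - 1) % (m / q / n / c) == 0)).map
      fun c => (q, n, c, m / q / n)

theorem check_one :
    ((localCands 5 6 12 120).all fun b => b.2.1 == 6 && b.2.2.1 == 2) = true := by
  decide +kernel

theorem check_seven : (localCands 5 6 12 840).isEmpty = true := by decide +kernel

theorem check_eleven :
    ((localCands 3 10 20 1320).all fun a => (localCands 5 6 12 1320).all fun b =>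
      !(comp a b && comp b a && decide (count [a, b] < 1320))) = true := by
  decide +kernel

theorem check_nineteen :
    ((localCands 19 2 0 2280).all fun a => (localCands 5 6 12 2280).all fun b =>
      !decide (count [a, b] < 2280)) = true := by
  decide +kernel

theorem two_elems : (∀ x : Multiplicative (ZMod 2), x = 1 ∨ x = Multiplicative.ofAdd 1) ∧
    Multiplicative.ofAdd (1 : ZMod 2) * Multiplicative.ofAdd 1 = 1 ∧
    Multiplicative.ofAdd (1 : ZMod 2) ≠ 1 := by
  decide +kernel

variable {G : Type*} [Group G] [Finite G]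

theorem row_mem (hG : Nat.card G = 175560) (t : G) (ht : orderOf t = 2) {q : ℕ} [hq : Fact q.Prime]
    (hq1 : q ∣ Nat.card (centralizer ({t} : Set G))) (hq2 : ¬ q * q ∣ Nat.card G) (hq3 : q ≠ 2) {cG rG : ℕ}
    (hc : ∀ P : Sylow q G, cOf P = cG) (hr : rG = 0 ∨ ∀ P : Sylow q G, rOf P = rG) :
    rowOf (centralizer ({t} : Set G)) q ∈ localCands q cG rG (Nat.card (centralizer ({t} : Set G))) := by
  set H := centralizer ({t} : Set G) with hH
  set P := Classical.arbitrary (Sylow q H) with hP
  have hm : Nat.card H ∣ 175560 := hG ▸ Subgroup.card_subgroup_dvd_card H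
  have hq2' : ¬ q * q ∣ Nat.card H := fun h => hq2 (h.trans (Subgroup.card_subgroup_dvd_card H))
  have hqG : q ∣ Nat.card G := hq1.trans (Subgroup.card_subgroup_dvd_card H)
  obtain ⟨R, hR⟩ := (P.isPGroup'.map H.subtype).exists_le_sylow
  have hRP : (R : Subgroup G) = (P : Subgroup H).map H.subtype := by
    refine (eq_of_le_of_card_ge hR ?_).symm
    rw [card_sylow_eq_prime hqG hq2 R, Subgroup.card_map_of_injective H.subtype_injective]
    exact (card_sylow_eq_prime hq1 hq2' P).ge
  have hcd : cOf P ∣ cG := by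
    have hle : (centralizer ((P : Subgroup H) : Set H)).map H.subtype ≤ centralizer ((R : Subgroup G) : Set G) := by
      rintro _ ⟨z, hz, rfl⟩
      rw [mem_centralizer_iff]
      intro w hw
      rw [SetLike.mem_coe, hRP] at hw
      obtain ⟨w', hw', rfl⟩ := hw
      exact congrArg Subtype.val (mem_centralizer_iff.1 hz w' hw')
    have h := card_dvd_of_le hle
    rw [Subgroup.card_map_of_injective H.subtype_injective, card_centralizer hq1 hq2' P,
      card_centralizer hqG hq2 R, hc R] at h
    exact Nat.dvd_of_mul_dvd_mul_left hq.out.pos h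
  have hce : 2 ∣ cOf P := by
    have htH : t ∈ H := mem_centralizer_singleton_iff.2 rfl
    have hin : (⟨t, htH⟩ : H) ∈ centralizer ((P : Subgroup H) : Set H) :=
      mem_centralizer_iff.2 fun w _ => Subtype.ext (mem_centralizer_singleton_iff.1 w.2)
    have h := Subgroup.orderOf_dvd_natCard _ hin
    rw [Subgroup.orderOf_mk, ht, card_centralizer hq1 hq2' P] at h
    exact (Nat.prime_two.dvd_mul.1 h).resolve_left fun h2 =>
      hq3 ((Nat.prime_dvd_prime_iff_eq Nat.prime_two hq.out).1 h2).symm
  obtain ⟨f, hf, hfr⟩ : ∃ f, f ∣ q - 1 ∧ rOf P = f * cOf P := by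
    set N := normalizer ((P : Subgroup H) : Set H) with hN
    set C := centralizer ((P : Subgroup H) : Set H) with hC
    have hcy := isCyclic_of_prime_card (card_sylow_eq_prime hq1 hq2' P)
    refine ⟨C.relIndex N, ?_, ?_⟩
    · have h := Subgroup.card_subgroup_dvd_card ((P : Subgroup H).normalizerMonoidHom).range
      rw [← Subgroup.index_ker, normalizerMonoidHom_ker, IsCyclic.card_mulAut,
        card_sylow_eq_prime hq1 hq2' P, Nat.totient_prime hq.out] at h
      exact h
    · have h := relIndex_mul_relIndex (⊥ : Subgroup H) C N bot_le (centralizer_le_normalizer _)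
      rw [relIndex_bot_left, relIndex_bot_left, card_centralizer hq1 hq2' P,
        card_normalizer hq1 hq2' P, mul_assoc] at h
      exact (Nat.eq_of_mul_eq_mul_left hq.out.pos (h.symm.trans (by rw [mul_comm (cOf P)])))
  have hrd : rG = 0 ∨ rOf P ∣ rG := by
    refine hr.imp id fun hr => ?_
    have hle : (normalizer ((P : Subgroup H) : Set H)).map H.subtype ≤ normalizer ((R : Subgroup G) : Set G) := by
      rw [hRP]
      exact le_normalizer_map _
    have h := card_dvd_of_le hle
    rw [Subgroup.card_map_of_injective H.subtype_injective, card_normalizer hq1 hq2' P,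
      card_normalizer hqG hq2 R, hr R] at h
    exact Nat.dvd_of_mul_dvd_mul_left hq.out.pos h
  have hmul : Nat.card (Sylow q H) * (q * rOf P) = Nat.card H := card_eq_mul hq1 hq2' P
  have hn0 : 0 < Nat.card (Sylow q H) := Nat.card_pos
  have hdiv : Nat.card H / q = Nat.card (Sylow q H) * rOf P := by
    rw [← hmul, mul_left_comm, Nat.mul_div_cancel_left _ hq.out.pos]
  have hdiv2 : Nat.card H / q / Nat.card (Sylow q H) = rOf P := by rw [hdiv, Nat.mul_div_cancel_left _ hn0]
  have hnq : Nat.card (Sylow q H) % q = 1 := by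
    have h : Nat.card (Sylow q H) % q = 1 % q := card_sylow_modEq_one q H
    rwa [Nat.one_mod_eq_one.mpr hq.out.ne_one] at h
  have hc0 : 0 < cOf P := Nat.pos_of_ne_zero fun h => not_dvd_cOf hq1 hq2' P (h ▸ dvd_zero q)
  have hcm : cOf P ∣ 175560 := by
    refine ((Dvd.intro_left q rfl).trans ?_).trans hm
    exact card_centralizer hq1 hq2' P ▸ card_subgroup_dvd_card _
  rw [localCands, List.mem_flatMap]
  refine ⟨Nat.card (Sylow q H), List.mem_filter.2 ⟨mem_divs ((Dvd.intro _ hmul).trans hm), ?_⟩,
    List.mem_map.2 ⟨cOf P, List.mem_filter.2 ⟨mem_divs hcm, ?_⟩, ?_⟩⟩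
  · simp only [Bool.and_eq_true, beq_iff_eq, Bool.or_eq_true, hdiv2]
    exact ⟨⟨by rw [hdiv, Nat.mul_mod_right], hnq⟩, hrd.imp id Nat.mod_eq_zero_of_dvd⟩
  · simp only [Bool.and_eq_true, beq_iff_eq, hdiv2]
    refine ⟨⟨⟨Nat.mod_eq_zero_of_dvd hce, Nat.mod_eq_zero_of_dvd hcd⟩, by rw [hfr, Nat.mul_mod_left]⟩, ?_⟩
    rw [hfr, Nat.mul_div_cancel _ hc0]
    exact Nat.mod_eq_zero_of_dvd hf
  · rw [hdiv2]; rfl

theorem card_centre [IsSimpleGroup G] (hG : Nat.card G = 175560) :
    ∃ t : G, orderOf t = 2 ∧ Nat.card (centralizer ({t} : Set G)) = 120 ∧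
      (rowOf (centralizer ({t} : Set G)) 5).2.1 = 6 ∧ (rowOf (centralizer ({t} : Set G)) 5).2.2.1 = 2 := by
  have L := local_of_card hG
  have f2 : Fact (Nat.Prime 2) := ⟨Nat.prime_two⟩
  have f3 : Fact (Nat.Prime 3) := ⟨Nat.prime_three⟩
  have f5 : Fact (Nat.Prime 5) := ⟨by norm_num⟩
  have f7 : Fact (Nat.Prime 7) := ⟨by norm_num⟩
  have f11 : Fact (Nat.Prime 11) := ⟨by norm_num⟩
  have f19 : Fact (Nat.Prime 19) := ⟨by norm_num⟩
  obtain ⟨P3⟩ := (Sylow.nonempty : Nonempty (Sylow 3 G))
  obtain ⟨t0, ht0⟩ := exists_prime_orderOf_dvd_card' (G := centralizer ((P3 : Subgroup G) : Set G)) 2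
    (by rw [card_centralizer (by rw [hG]; norm_num) (by rw [hG]; norm_num) P3, L.c_three P3]; norm_num)
  set t : G := (t0 : G) with ht
  have hto : orderOf t = 2 := by rwa [ht, orderOf_coe]
  set H := centralizer ({t} : Set G) with hH
  refine ⟨t, hto, ?_⟩
  have hm : Nat.card H ∣ 175560 := hG ▸ Subgroup.card_subgroup_dvd_card H
  have h3 : 3 ∣ Nat.card H := by
    have hle : (P3 : Subgroup G) ≤ H := fun x hx =>
      mem_centralizer_singleton_iff.2 (mem_centralizer_iff.1 t0.2 x hx)
    exact card_sylow_eq_prime (by rw [hG]; norm_num) (by rw [hG]; norm_num) P3 ▸ card_dvd_of_le hle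
  have h8 : 8 ∣ Nat.card H := by
    obtain ⟨S, hS⟩ := (IsPGroup.of_card (n := 1) (by rw [Nat.card_zpowers, hto, pow_one]) :
      IsPGroup 2 (zpowers t)).exists_le_sylow
    have hle : (S : Subgroup G) ≤ H := fun x hx =>
      mem_centralizer_singleton_iff.2 (two_comm hG S x hx t (hS (mem_zpowers t)))
    exact card_sylow_two hG S ▸ card_dvd_of_le hle
  have hdiv : ∀ (p : ℕ) [Fact p.Prime], p ∣ Nat.card G → ¬ p * p ∣ Nat.card G → p ≠ 2 →
      ((p ∣ Nat.card H → ∀ P : Sylow p G, 2 ∣ cOf P) ∧ ((∀ P : Sylow p G, 2 ∣ cOf P) → p ∣ Nat.card H)) := by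
    intro p hp h1 h2 hne
    refine ⟨fun hd P => ?_, fun he => ?_⟩
    · obtain ⟨Q, hQ⟩ := dvd_cOf_of_centralizer h1 h2 t hd (by
        rw [hto]; exact (Nat.coprime_primes Nat.prime_two hp.out).2 hne.symm)
      rw [hto] at hQ
      rwa [cOf_congr P Q]
    · obtain ⟨P⟩ := (Sylow.nonempty : Nonempty (Sylow p G))
      obtain ⟨i, hi⟩ := exists_prime_orderOf_dvd_card' (G := centralizer ((P : Subgroup G) : Set G)) 2
        (by rw [card_centralizer h1 h2 P]; exact (he P).mul_left p)
      obtain ⟨g, hg⟩ := isConj_iff.1 (involutions_conj hG (i : G) t (by rwa [orderOf_coe]) hto)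
      obtain ⟨x, hx⟩ := exists_prime_orderOf_dvd_card' (G := (P : Subgroup G)) p
        (by rw [card_sylow_eq_prime h1 h2 P])
      have hxi : (x : G) * i = i * x := mem_centralizer_iff.1 i.2 x x.2
      have hmem : g * (x : G) * g⁻¹ ∈ H := mem_centralizer_singleton_iff.2 (by
        rw [← hg]
        calc g * x * g⁻¹ * (g * i * g⁻¹) = g * ((x : G) * i) * g⁻¹ := by group
          _ = g * i * g⁻¹ * (g * x * g⁻¹) := by rw [hxi]; group)
      have h := Subgroup.orderOf_dvd_natCard _ hmem
      rwa [show orderOf (g * (x : G) * g⁻¹) = p from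
        (orderOf_injective (MulAut.conj g).toMonoidHom (MulAut.conj g).injective (x : G)).trans
          (by rwa [orderOf_coe])] at h
  have h5 : 5 ∣ Nat.card H :=
    (hdiv 5 (by rw [hG]; norm_num) (by rw [hG]; norm_num) (by norm_num)).2 fun P => by
      rw [cOf_five hG P]; norm_num
  -- the order
  obtain ⟨k, hk⟩ : 120 ∣ Nat.card H :=
    Nat.Coprime.mul_dvd_of_dvd_of_dvd (show Nat.Coprime 24 5 by norm_num)
      (Nat.Coprime.mul_dvd_of_dvd_of_dvd (show Nat.Coprime 8 3 by norm_num) h8 h3) h5
  have hk1463 : k ∣ 1463 :=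
    Nat.dvd_of_mul_dvd_mul_left (show 0 < 120 by norm_num) (by rw [← hk]; exact hm)
  have small := L.small (fun P => cOf_five hG P) (Classical.arbitrary _) (Classical.arbitrary _)
    (Classical.arbitrary _)
  have e7 : 7 ∣ k → cOf (Classical.arbitrary (Sylow 7 G)) = 2 := fun h => by
    have := (hdiv 7 (by rw [hG]; norm_num) (by rw [hG]; norm_num) (by norm_num)).1 (hk ▸ h.mul_left 120)
      (Classical.arbitrary _)
    rcases small.1 with h' | h' <;> omega
  have e11 : 11 ∣ k → cOf (Classical.arbitrary (Sylow 11 G)) = 2 := fun h => by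
    have := (hdiv 11 (by rw [hG]; norm_num) (by rw [hG]; norm_num) (by norm_num)).1 (hk ▸ h.mul_left 120)
      (Classical.arbitrary _)
    rcases small.2.1 with h' | h' <;> omega
  have e19 : 19 ∣ k → cOf (Classical.arbitrary (Sylow 19 G)) = 2 := fun h => by
    have := (hdiv 19 (by rw [hG]; norm_num) (by rw [hG]; norm_num) (by norm_num)).1 (hk ▸ h.mul_left 120)
      (Classical.arbitrary _)
    rcases small.2.2.1 with h' | h' <;> omega
  have hkc : k = 1 ∨ k = 7 ∨ k = 11 ∨ k = 19 := by
    have hmem : k ∈ Nat.divisors 1463 := Nat.mem_divisors.2 ⟨hk1463, by norm_num⟩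
    rw [show Nat.divisors 1463 = {1, 7, 11, 19, 77, 133, 209, 1463} by decide +kernel] at hmem
    simp only [Finset.mem_insert, Finset.mem_singleton] at hmem
    obtain ⟨s7, s11, s19, hsum⟩ := small
    rcases hmem with h | h | h | h | h | h | h | h
    · omega
    · omega
    · omega
    · omega
    all_goals exfalso
    · have := e7 (h ▸ by norm_num); have := e11 (h ▸ by norm_num); omega
    · have := e7 (h ▸ by norm_num); have := e19 (h ▸ by norm_num); omega
    · have := e11 (h ▸ by norm_num); have := e19 (h ▸ by norm_num); omega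
    · have := e7 (h ▸ by norm_num); have := e11 (h ▸ by norm_num); omega
  have r5 := row_mem hG t hto (q := 5) h5 (by rw [hG]; norm_num) (by norm_num) (fun P => cOf_five hG P)
    (Or.inr L.r_five)
  have r3 := row_mem hG t hto (q := 3) (rG := 0) h3 (by rw [hG]; norm_num) (by norm_num) L.c_three (Or.inl rfl)
  rcases hkc with rfl | rfl | rfl | rfl
  · refine ⟨hk, ?_⟩
    rw [hk] at r5
    have h := List.all_eq_true.1 check_one _ r5
    simpa [Bool.and_eq_true] using h
  · rw [hk] at r5
    rw [List.isEmpty_iff.1 check_seven] at r5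
    simp at r5
  · have hps : ∀ p ∈ [3, 5], p ∈ primesOf (Nat.card H) := by rw [hk]; decide
    have hcount := count_lt (G := H) hm [3, 5] (by decide) hps
    have hc1 := comp_rowOf (G := H) hm (hps 3 (by simp)) (hps 5 (by simp)) (by norm_num)
    have hc2 := comp_rowOf (G := H) hm (hps 5 (by simp)) (hps 3 (by simp)) (by norm_num)
    have r3' : rowOf H 3 ∈ localCands 3 10 20 1320 := by
      have h := row_mem hG t hto (q := 3) (rG := 20) h3 (by rw [hG]; norm_num) (by norm_num) L.c_three
        (Or.inr fun P => by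
          obtain ⟨e, he1, he2, he3⟩ := exists_ratio (G := G) (by rw [hG]; norm_num) (by rw [hG]; norm_num) P
            (CfsgLib.Perm.not_isPGroup_of_dvd (q := 5) (by norm_num) (by norm_num) ⟨35112, hG⟩)
          rw [he3, L.c_three P]
          have := Nat.le_of_dvd (by norm_num) he2
          omega)
      rwa [hk] at h
    rw [hk] at r5 hcount
    have h := List.all_eq_true.1 (List.all_eq_true.1 check_eleven _ r3') _ r5
    rw [List.map_cons, List.map_cons, List.map_nil] at hcount
    rw [hc1, hc2, decide_eq_true hcount] at h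
    simp at h
  · have hps : ∀ p ∈ [19, 5], p ∈ primesOf (Nat.card H) := by rw [hk]; decide
    have hcount := count_lt (G := H) hm [19, 5] (by decide) hps
    have r19 := row_mem hG t hto (q := 19) (cG := 2) (rG := 0) (by rw [hk]; norm_num) (by rw [hG]; norm_num)
      (by norm_num) (fun P => (cOf_congr P _).trans (e19 dvd_rfl)) (Or.inl rfl)
    rw [hk] at r5 r19 hcount
    have h := List.all_eq_true.1 (List.all_eq_true.1 check_nineteen _ r19) _ r5
    rw [List.map_cons, List.map_cons, List.map_nil] at hcount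
    rw [decide_eq_true hcount] at h
    simp at h

/-- A group of order sixty with six self-centralising Sylow `5`-subgroups is simple. -/
theorem simple_sixty {K : Type*} [Group K] [Finite K] (hK : Nat.card K = 60) [Fact (Nat.Prime 5)]
    (hn : Nat.card (Sylow 5 K) = 6) (hc : ∀ x y : K, orderOf x = 5 → y * x = x * y → y ^ 5 = 1) :
    IsSimpleGroup K := by
  classical
  have : Nontrivial K := Finite.one_lt_card_iff_nontrivial.1 (by rw [hK]; norm_num)
  have h1 : 5 ∣ Nat.card K := by rw [hK]; norm_num
  have h2 : ¬ 5 * 5 ∣ Nat.card K := by rw [hK]; norm_num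
  obtain ⟨x, hx⟩ := exists_prime_orderOf_dvd_card' (G := K) 5 h1
  -- a normal subgroup of order prime to five has order congruent to one
  have hcong : ∀ N : Subgroup K, N.Normal → ¬ 5 ∣ Nat.card N → Nat.card N % 5 = 1 := by
    intro N hN hN5
    letI : MulAction (zpowers x) N := MulAction.compHom N
      ((MulAut.conjNormal : K →* MulAut N).comp (zpowers x).subtype)
    have hpg : IsPGroup 5 (zpowers x) := IsPGroup.of_card (n := 1) (by rw [Nat.card_zpowers, hx, pow_one])
    have h := hpg.card_modEq_card_fixedPoints N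
    have hfix : MulAction.fixedPoints (zpowers x) N = {1} := by
      ext n
      constructor
      · intro hn'
        have h' : x * (n : K) * x⁻¹ = n := congrArg Subtype.val (hn' ⟨x, mem_zpowers x⟩)
        have h5 := hc x n hx (mul_inv_eq_iff_eq_mul.1 h').symm
        have hd : orderOf (n : K) ∣ 5 := orderOf_dvd_of_pow_eq_one h5
        rcases (Nat.dvd_prime (by norm_num)).1 hd with h' | h'
        · exact Subtype.ext (orderOf_eq_one_iff.1 h')
        · exact absurd (h' ▸ N.orderOf_dvd_natCard n.2) hN5
      · rintro rfl y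
        exact Subtype.ext (by
          show (MulAut.conjNormal (y : K) (1 : N) : K) = 1
          rw [map_one]; rfl)
    rw [hfix] at h
    simpa [Nat.ModEq] using h
  refine { exists_pair_ne := exists_pair_ne K, eq_bot_or_eq_top_of_normal := fun N hN => ?_ }
  by_cases h5 : 5 ∣ Nat.card N
  · right
    have h2' : ¬ 5 * 5 ∣ Nat.card N := fun h => h2 (h.trans (Subgroup.card_subgroup_dvd_card N))
    obtain ⟨y, hy⟩ := exists_prime_orderOf_dvd_card' (G := N) 5 h5
    -- all six lie in `N`
    have hall : ∀ P : Sylow 5 K, (P : Subgroup K) ≤ N := by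
      intro P
      obtain ⟨Q, hQ⟩ := (IsPGroup.of_card (n := 1) (by rw [Nat.card_zpowers, orderOf_coe, hy, pow_one]) :
        IsPGroup 5 (zpowers (y : K))).exists_le_sylow
      have hQe : (Q : Subgroup K) = zpowers (y : K) := (eq_of_le_of_card_ge hQ
        (by rw [Nat.card_zpowers, orderOf_coe, hy, card_sylow_eq_prime h1 h2 Q])).symm
      obtain ⟨g, hg⟩ := MulAction.exists_smul_eq K Q P
      intro z hz
      rw [← hg, Sylow.coe_subgroup_smul, mem_pointwise_smul_iff_inv_smul_mem, hQe] at hz
      have hz' : g⁻¹ * z * g ∈ N := by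
        have := zpowers_le.2 y.2 hz
        simpa [MulAut.smul_def, MulAut.conj_inv_apply] using this
      have := hN.conj_mem _ hz' g
      rwa [show g * (g⁻¹ * z * g) * g⁻¹ = z by group] at this
    have h6 : 6 ≤ Nat.card (Sylow 5 N) := by
      rw [← hn]
      exact Nat.card_le_card_of_injective (fun P => P.subtype (hall P)) fun P Q h => Sylow.subtype_injective h
    have hd : Nat.card N ∣ 60 := hK ▸ Subgroup.card_subgroup_dvd_card N
    refine Subgroup.eq_top_of_card_eq N ?_
    rw [hK]
    obtain ⟨Q⟩ := (Sylow.nonempty : Nonempty (Sylow 5 N))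
    have hQ := Q.card_dvd_index
    have hi := (Q : Subgroup N).card_mul_index
    rw [card_sylow_eq_prime h5 h2' Q] at hi
    have hle := Nat.le_of_dvd (Nat.pos_of_ne_zero Subgroup.index_ne_zero_of_finite) hQ
    have hle60 := Nat.le_of_dvd (by norm_num) hd
    have h30 : Nat.card N ≠ 30 := by
      intro h30
      obtain ⟨M, hM, hMc⟩ := CfsgLib.Recog.Sixty.exists_normal_five (G := N) h30
      obtain ⟨Q', hQ'⟩ := (IsPGroup.of_card (n := 1) (by rw [hMc, pow_one]) : IsPGroup 5 M).exists_le_sylow
      have hQM : M = (Q' : Subgroup N) :=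
        eq_of_le_of_card_ge hQ' (by rw [hMc, card_sylow_eq_prime h5 h2' Q'])
      have : (Q' : Subgroup N).Normal := hQM ▸ hM
      have : Unique (Sylow 5 N) := Sylow.unique_of_normal Q' this
      rw [Nat.card_unique] at h6
      norm_num at h6
    obtain ⟨j, hj⟩ := hd
    interval_cases (Nat.card N) <;> omega
  · left
    rw [← Subgroup.card_eq_one]
    have hc1 := hcong N hN h5
    have hd : Nat.card N ∣ 12 := by
      have h : Nat.card N ∣ 12 * 5 := by
        have := Subgroup.card_subgroup_dvd_card N
        rwa [hK] at this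
      exact ((((show Nat.Prime 5 by norm_num).coprime_iff_not_dvd).2 h5).symm).dvd_of_dvd_mul_right h
    have : Fact (Nat.Prime 3) := ⟨Nat.prime_three⟩
    by_contra hne
    have h6 : Nat.card N = 6 := by
      have := Nat.le_of_dvd (by norm_num) hd
      interval_cases (Nat.card N) <;> simp_all
    -- the subgroup of order three is characteristic
    obtain ⟨Q⟩ := (Sylow.nonempty : Nonempty (Sylow 3 N))
    have hQ3 : Nat.card Q = 3 := card_sylow_eq_prime (by rw [h6]; norm_num) (by rw [h6]; norm_num) Q
    have hQn : (Q : Subgroup N).Normal := by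
      refine Subgroup.normal_of_index_eq_two ?_
      have := (Q : Subgroup N).card_mul_index
      rw [hQ3, h6] at this
      omega
    have : (Q : Subgroup N).Characteristic := Sylow.characteristic_of_normal Q hQn
    have hmap : ((Q : Subgroup N).map N.subtype).Normal := ConjAct.normal_of_characteristic_of_normal
    have h3 := hcong _ hmap (by rw [Subgroup.card_map_of_injective N.subtype_injective, hQ3]; norm_num)
    rw [Subgroup.card_map_of_injective N.subtype_injective, hQ3] at h3
    norm_num at h3

/-- The local data of a simple group of order `175560`. -/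
theorem exists_local [IsSimpleGroup G] (hG : Nat.card G = 175560) :
    ∃ t : G, Cfsg.IsTwoCentralInvolution t ∧ Nonempty (centralizer ({t} : Set G) ≃* Mdl) := by
  classical
  obtain ⟨t, hto, h120, hn5, hc5⟩ := card_centre hG
  have f2 : Fact (Nat.Prime 2) := ⟨Nat.prime_two⟩
  have f5 : Fact (Nat.Prime 5) := ⟨by norm_num⟩
  obtain ⟨S, hS⟩ := (IsPGroup.of_card (n := 1) (by rw [Nat.card_zpowers, hto, pow_one]) :
    IsPGroup 2 (zpowers t)).exists_le_sylow
  refine ⟨t, ⟨hto, S, hS (mem_zpowers t), fun x hx => two_comm hG S x hx t (hS (mem_zpowers t))⟩, ?_⟩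
  set H := centralizer ({t} : Set G) with hH
  set tH : H := ⟨t, mem_centralizer_singleton_iff.2 rfl⟩ with htH
  have htc : ∀ h : H, h * tH = tH * h := fun h => Subtype.ext (mem_centralizer_singleton_iff.1 h.2)
  have hSH : (S : Subgroup G) ≤ H := fun x hx =>
    mem_centralizer_singleton_iff.2 (two_comm hG S x hx t (hS (mem_zpowers t)))
  set S' : Subgroup H := (S : Subgroup G).subgroupOf H with hS'
  have hS'8 : Nat.card S' = 8 := by
    rw [hS', Nat.card_congr (subgroupOfEquivOfLe hSH).toEquiv, card_sylow_two hG S]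
  have hidx : S'.index = 15 := by
    have h := S'.card_mul_index
    rw [hS'8, h120] at h
    omega
  have htS' : tH ∈ S' := hS (mem_zpowers t)
  have hinj : Function.Injective (Abelianization.of : S' →* Abelianization S') := by
    rw [← MonoidHom.ker_eq_bot_iff, Abelianization.ker_of, commutator_eq_bot_iff_center_eq_top, eq_top_iff]
    intro a _
    exact mem_center_iff.2 fun b => Subtype.ext (Subtype.ext (two_comm hG S _ b.2 _ a.2))
  set χ := MonoidHom.transfer (Abelianization.of : S' →* Abelianization S')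
  set K := χ.ker with hK
  have htK : tH ∉ K := by
    intro h
    have h1 : χ tH = 1 := h
    have key : ∀ (k : ℕ) (g : H), g⁻¹ * tH ^ k * g ∈ S' → g⁻¹ * tH ^ k * g = tH ^ k := fun k g _ => by
      rw [mul_assoc, ← ((show Commute g tH from htc g).pow_right k).eq, inv_mul_cancel_left]
    rw [MonoidHom.transfer_eq_pow _ tH key, ← map_one (Abelianization.of : S' →* _)] at h1
    have h2 : tH ^ S'.index = 1 := congrArg Subtype.val (hinj h1)
    have h3 := orderOf_dvd_of_pow_eq_one h2
    rw [htH, Subgroup.orderOf_mk, hto, hidx] at h3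
    norm_num at h3
  have hA8 : Nat.card (Abelianization S') ∣ 8 := hS'8 ▸
    Subgroup.card_dvd_of_surjective (Abelianization.of : S' →* Abelianization S') (QuotientGroup.mk'_surjective _)
  have hKi : K.index ∣ 8 := by
    rw [hK, Subgroup.index_ker]
    exact (Subgroup.card_subgroup_dvd_card _).trans hA8
  have h5H1 : 5 ∣ Nat.card H := by rw [h120]; norm_num
  have h5H2 : ¬ 5 * 5 ∣ Nat.card H := by rw [h120]; norm_num
  have hKmul := K.card_mul_index
  rw [h120] at hKmul
  have hn : K.Normal := MonoidHom.normal_ker χ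
  have hall : ∀ P : Sylow 5 H, (P : Subgroup H) ≤ K := by
    intro P z hz
    have h5 : z ^ 5 = 1 := by
      have h := congrArg Subtype.val (pow_card_eq_one' (x := (⟨z, hz⟩ : (P : Subgroup H))))
      rwa [card_sylow_eq_prime h5H1 h5H2 P] at h
    have h8 : z ^ 8 ∈ K := by
      rw [hK, MonoidHom.mem_ker, map_pow]
      obtain ⟨c, hc⟩ := hA8
      rw [show (8 : ℕ) = Nat.card (Abelianization S') * c from hc, pow_mul, pow_card_eq_one', one_pow]
    have hz' : z = (z ^ 8) ^ 2 := by
      rw [← pow_mul, show 8 * 2 = 5 * 3 + 1 from rfl, pow_succ, pow_mul, h5, one_pow, one_mul]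
    rw [hz']
    exact pow_mem h8 2
  have hn6 : Nat.card (Sylow 5 H) = 6 := hn5
  have h5K1 : 5 ∣ Nat.card K := by
    obtain ⟨P⟩ := (Sylow.nonempty : Nonempty (Sylow 5 H))
    exact card_sylow_eq_prime h5H1 h5H2 P ▸ card_dvd_of_le (hall P)
  have h5K2 : ¬ 5 * 5 ∣ Nat.card K := fun h => h5H2 (h.trans (Subgroup.card_subgroup_dvd_card K))
  have hbij : Nat.card (Sylow 5 K) = 6 := by
    rw [← hn6]
    refine (Nat.card_congr (Equiv.ofBijective (fun P : Sylow 5 H => P.subtype (hall P))
      ⟨fun P Q h => Sylow.subtype_injective h, fun R => ?_⟩)).symm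
    obtain ⟨P, hP⟩ := (R.isPGroup'.map K.subtype).exists_le_sylow
    have hPR : (P : Subgroup H) = (R : Subgroup K).map K.subtype := by
      refine (eq_of_le_of_card_ge hP ?_).symm
      rw [card_sylow_eq_prime h5H1 h5H2 P, Subgroup.card_map_of_injective K.subtype_injective]
      exact (card_sylow_eq_prime h5K1 h5K2 R).ge
    refine ⟨P, Sylow.ext ?_⟩
    show (P : Subgroup H).subgroupOf K = _
    rw [hPR, subgroupOf, comap_map_eq_self_of_injective K.subtype_injective]
  have hK60 : Nat.card K = 60 := by
    obtain ⟨Q⟩ := (Sylow.nonempty : Nonempty (Sylow 5 K))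
    have hQ := Q.card_dvd_index
    have hi := (Q : Subgroup K).card_mul_index
    rw [card_sylow_eq_prime h5K1 h5K2 Q] at hi
    rw [hbij] at hQ
    have hne : K.index ≠ 1 := fun h => htK (index_eq_one.1 h ▸ mem_top tH)
    have h30 : Nat.card K ≠ 30 := by
      intro h30
      obtain ⟨M, hM, hMc⟩ := CfsgLib.Recog.Sixty.exists_normal_five (G := K) h30
      obtain ⟨Q', hQ'⟩ := (IsPGroup.of_card (n := 1) (by rw [hMc, pow_one]) : IsPGroup 5 M).exists_le_sylow
      have hQM : M = (Q' : Subgroup K) :=
        eq_of_le_of_card_ge hQ' (by rw [hMc, card_sylow_eq_prime h5K1 h5K2 Q'])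
      have : (Q' : Subgroup K).Normal := hQM ▸ hM
      have : Unique (Sylow 5 K) := Sylow.unique_of_normal Q' this
      rw [Nat.card_unique] at hbij
      norm_num at hbij
    obtain ⟨j, hj⟩ := hQ
    have hle := Nat.le_of_dvd (by norm_num) hKi
    interval_cases hindex : K.index <;> omega
  have hcP : ∀ x y : K, orderOf x = 5 → y * x = x * y → y ^ 5 = 1 := by
    intro x y hx hxy
    obtain ⟨P, hP⟩ := (IsPGroup.of_card (n := 1) (by rw [Nat.card_zpowers, orderOf_coe, hx, pow_one]) :
      IsPGroup 5 (zpowers (x : H))).exists_le_sylow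
    have hPe : (P : Subgroup H) = zpowers (x : H) := (eq_of_le_of_card_ge hP
      (by rw [Nat.card_zpowers, orderOf_coe, hx, card_sylow_eq_prime h5H1 h5H2 P])).symm
    set C := centralizer ((P : Subgroup H) : Set H) with hC
    have hC10 : Nat.card C = 10 := by
      rw [hC, card_centralizer h5H1 h5H2 P, cOf_congr P (Classical.arbitrary _)]
      exact congrArg (5 * ·) hc5
    have hyC : (y : H) ∈ C := by
      rw [hC, hPe, zpowers_eq_closure, centralizer_closure, mem_centralizer_singleton_iff]
      exact congrArg Subtype.val hxy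
    have htC : tH ∈ C := mem_centralizer_iff.2 fun w _ => htc w
    have hCK : Nat.card (C ⊓ K : Subgroup H) = 5 := by
      have hd : Nat.card (C ⊓ K : Subgroup H) ∣ 10 := hC10 ▸ card_dvd_of_le inf_le_left
      have h5' : 5 ∣ Nat.card (C ⊓ K : Subgroup H) := by
        rw [← card_sylow_eq_prime h5H1 h5H2 P]
        exact card_dvd_of_le (le_inf (sylow_le_centralizer h5H1 h5H2 P) (hall P))
      have hne : Nat.card (C ⊓ K : Subgroup H) ≠ 10 := fun h => htK (by
        have heq : (C ⊓ K : Subgroup H) = C := eq_of_le_of_card_ge inf_le_left (by rw [h, hC10])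
        rw [← heq] at htC
        exact htC.2)
      have := Nat.le_of_dvd (by norm_num) hd
      interval_cases (Nat.card (C ⊓ K : Subgroup H)) <;> omega
    have h := congrArg Subtype.val (pow_card_eq_one' (x := (⟨(y : H), hyC, y.2⟩ : (C ⊓ K : Subgroup H))))
    rw [hCK] at h
    exact Subtype.ext h
  have := simple_sixty hK60 hbij hcP
  obtain ⟨φ⟩ := CfsgLib.Recog.Sixty.iso_alt_five (G := K) hK60
  -- assemble the product
  have two := two_elems.1
  have htt : tH * tH = 1 := by
    rw [← pow_two]; exact orderOf_dvd_iff_pow_eq_one.1 (by rw [htH, Subgroup.orderOf_mk, hto])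
  let f : Multiplicative (ZMod 2) →* H :=
    { toFun := fun x => if x = 1 then 1 else tH
      map_one' := if_pos rfl
      map_mul' := fun x y => by
        rcases two x with rfl | rfl <;> rcases two y with rfl | rfl
        · simp
        · simp
        · simp
        · rw [if_pos two_elems.2.1, if_neg two_elems.2.2, htt] }
  let g : A5 →* H := K.subtype.comp φ.symm.toMonoidHom
  let ψ : Mdl →* H := MonoidHom.noncommCoprod f g fun x a => by
    show (if x = 1 then 1 else tH) * g a = g a * (if x = 1 then 1 else tH)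
    split_ifs
    · rw [one_mul, mul_one]
    · exact (htc _).symm
  have hψ : Function.Injective ψ := by
    rw [← MonoidHom.ker_eq_bot_iff, eq_bot_iff]
    rintro ⟨x, a⟩ hxa
    have h : (if x = 1 then 1 else tH) * ((φ.symm a : K) : H) = 1 := hxa
    rcases two x with rfl | rfl
    · rw [if_pos rfl, one_mul] at h
      have : φ.symm a = 1 := Subtype.ext h
      simp [(MulEquiv.map_eq_one_iff φ.symm).1 this]
    · exfalso
      rw [if_neg two_elems.2.2] at h
      refine htK ?_
      rw [eq_inv_of_mul_eq_one_left h]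
      exact inv_mem (φ.symm a).2
  have hcard : Nat.card Mdl = Nat.card H := by
    rw [h120, Nat.card_prod, Nat.card_congr φ.symm.toEquiv, hK60, Nat.card_eq_fintype_card]
    rfl
  exact ⟨(MulEquiv.ofBijective ψ ((Nat.bijective_iff_injective_and_card ψ).2 ⟨hψ, hcard⟩)).symm⟩

end CfsgLib.Recog.J1FromOrder
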