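import Cfsg.Agent.Lib.Orders175560.Main

/-!
Owner: helper29. The local data at the odd primes of a simple group of order `175560`.
-/

set_option autoImplicit false

namespace CfsgLib.Recog.J1FromOrder

open Subgroup CfsgLib.Orders175560
open scoped Pointwise

variable {G : Type*} [Group G] [Finite G]

/-- The possible numbers of Sylow `q`-subgroups in a centraliser, `m` being the index of `q` there. -/
def inner (m q : ℕ) : List ℕ := divs.filter fun d => m % d == 0 && d % q == 1

/-- The double count of commuting pairs of Sylow subgroups. -/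
def pairOK (a b : Row) : Bool :=
  a.2.2.1 % b.1 != 0 ||
    (inner (a.2.2.1 / b.1) b.1).any fun x => (inner (b.2.2.1 / a.1) a.1).any fun y => a.2.1 * x == b.2.1 * y

theorem le_centralizer_smul {p q : ℕ} {P : Sylow p G} {Q : Sylow q G} (g : G)
    (h : (Q : Subgroup G) ≤ centralizer ((P : Subgroup G) : Set G)) :
    ((g • Q : Sylow q G) : Subgroup G) ≤ centralizer (((g • P : Sylow p G) : Subgroup G) : Set G) := by
  intro z hz
  rw [Sylow.coe_subgroup_smul, mem_pointwise_smul_iff_inv_smul_mem] at hz
  rw [mem_centralizer_iff]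
  intro w hw
  change w ∈ MulAut.conj g • (P : Subgroup G) at hw
  rw [mem_pointwise_smul_iff_inv_smul_mem] at hw
  have hz' : g⁻¹ * z * g ∈ (Q : Subgroup G) := by simpa [MulAut.smul_def, MulAut.conj_inv_apply] using hz
  have hw' : g⁻¹ * w * g ∈ (P : Subgroup G) := by simpa [MulAut.smul_def, MulAut.conj_inv_apply] using hw
  have h' := mem_centralizer_iff.1 (h hz') _ hw'
  calc w * z = g * ((g⁻¹ * w * g) * (g⁻¹ * z * g)) * g⁻¹ := by group
    _ = z * w := by rw [h']; group

/-- The Sylow `q`-subgroups centralising a Sylow `p`-subgroup. -/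
def around {p : ℕ} (q : ℕ) (P : Sylow p G) : Type _ :=
  {Q : Sylow q G // (Q : Subgroup G) ≤ centralizer ((P : Subgroup G) : Set G)}

theorem card_around {p q : ℕ} [Fact p.Prime] [Fact q.Prime] (P P' : Sylow p G) :
    Nat.card (around q P) = Nat.card (around q P') := by
  obtain ⟨g, rfl⟩ := MulAction.exists_smul_eq G P P'
  refine Nat.card_congr (Equiv.subtypeEquiv (MulAction.toPerm g) fun Q => ⟨le_centralizer_smul g, fun h => ?_⟩)
  have h' := le_centralizer_smul g⁻¹ h
  rwa [MulAction.toPerm_apply, inv_smul_smul, inv_smul_smul] at h'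

theorem pair_count {p q : ℕ} [Fact p.Prime] [Fact q.Prime] (P : Sylow p G) (Q : Sylow q G) :
    Nat.card (Sylow p G) * Nat.card (around q P) = Nat.card (Sylow q G) * Nat.card (around p Q) := by
  have e : (Σ P : Sylow p G, around q P) ≃ (Σ Q : Sylow q G, around p Q) :=
    { toFun := fun x => ⟨x.2.1, x.1, le_centralizer_iff.1 x.2.2⟩
      invFun := fun x => ⟨x.2.1, x.1, le_centralizer_iff.1 x.2.2⟩
      left_inv := fun _ => rfl
      right_inv := fun _ => rfl }
  have := Fintype.ofFinite (Sylow p G)
  have := Fintype.ofFinite (Sylow q G)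
  have (R : Sylow p G) : Finite (around q R) := by unfold around; infer_instance
  have (R : Sylow q G) : Finite (around p R) := by unfold around; infer_instance
  have h := Nat.card_congr e
  rwa [Nat.card_sigma, Nat.card_sigma, Finset.sum_congr rfl (fun R _ => card_around R P),
    Finset.sum_congr rfl (fun R _ => card_around R Q), Finset.sum_const, Finset.sum_const, smul_eq_mul,
    smul_eq_mul, Finset.card_univ, Finset.card_univ, ← Nat.card_eq_fintype_card,
    ← Nat.card_eq_fintype_card] at h

theorem card_around_mem {p q : ℕ} [hp : Fact p.Prime] [hq : Fact q.Prime] (hm : Nat.card G ∣ 175560)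
    (hp1 : p ∣ Nat.card G) (hp2 : ¬ p * p ∣ Nat.card G) (hq1 : q ∣ Nat.card G) (hq2 : ¬ q * q ∣ Nat.card G)
    (hne : q ≠ p) (P : Sylow p G) (hqc : q ∣ cOf P) :
    Nat.card (around q P) ∈ inner (cOf P / q) q := by
  set C := centralizer ((P : Subgroup G) : Set G) with hC
  obtain ⟨Q, hQC, hPC, -⟩ := exists_centralizing hp1 hp2 P hq1 hq2 hne hqc
  have hCc : Nat.card C = p * cOf P := card_centralizer hp1 hp2 P
  have hq2' : ¬ q * q ∣ Nat.card C := fun h => hq2 (h.trans (Subgroup.card_subgroup_dvd_card C))
  have hq1' : q ∣ Nat.card C := by rw [hCc]; exact hqc.mul_left p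
  -- Sylow subgroups inside the centraliser
  have hcard : Nat.card (around q P) = Nat.card (Sylow q C) := by
    refine Nat.card_congr (Equiv.ofBijective (fun R : around q P => R.1.subtype R.2) ⟨?_, ?_⟩)
    · intro R R' h
      exact Subtype.ext (Sylow.subtype_injective h)
    · intro S
      obtain ⟨R, hR⟩ := (S.isPGroup'.map C.subtype).exists_le_sylow
      have hRS : (R : Subgroup G) = (S : Subgroup C).map C.subtype := by
        refine (eq_of_le_of_card_ge hR ?_).symm
        rw [card_sylow_eq_prime hq1 hq2 R, Subgroup.card_map_of_injective C.subtype_injective]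
        exact (card_sylow_eq_prime hq1' hq2' S).ge
      refine ⟨⟨R, hRS ▸ Subgroup.map_subtype_le _⟩, Sylow.ext ?_⟩
      show (R : Subgroup G).subgroupOf C = (S : Subgroup C)
      rw [hRS, subgroupOf, comap_map_eq_self_of_injective C.subtype_injective]
  set Q' : Sylow q C := Q.subtype hQC with hQ'
  set N := normalizer ((Q' : Subgroup C) : Set C) with hN
  have hQ'N : q ∣ Nat.card N := by
    refine dvd_trans ?_ (card_dvd_of_le le_normalizer)
    rw [card_sylow_eq_prime hq1' hq2' Q']
  have hPN : p ∣ Nat.card N := by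
    refine dvd_trans ?_ (card_dvd_of_le (H := (P : Subgroup G).subgroupOf C) ?_)
    · rw [Nat.card_congr (subgroupOfEquivOfLe (sylow_le_centralizer hp1 hp2 P)).toEquiv,
        card_sylow_eq_prime hp1 hp2 P]
    · intro z hz
      exact centralizer_le_normalizer _ fun w hw => Subtype.ext (mem_centralizer_iff.mp (hPC hz) w.1 hw)
  obtain ⟨k, hk⟩ := Nat.Coprime.mul_dvd_of_dvd_of_dvd
    ((Nat.coprime_primes hp.out hq.out).mpr hne.symm) hPN hQ'N
  have h5 : Nat.card (Sylow q C) * (p * q * k) = p * cOf P := by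
    rw [← hk, ← hCc, Sylow.card_eq_index_normalizer Q']
    exact Subgroup.index_mul_card N
  have hdiv : Nat.card (Sylow q C) ∣ cOf P / q := by
    obtain ⟨c', hc'⟩ := hqc
    rw [hc', Nat.mul_div_cancel_left _ hq.out.pos]
    refine ⟨k, Nat.eq_of_mul_eq_mul_left (Nat.mul_pos hp.out.pos hq.out.pos) ?_⟩
    rw [hc'] at h5
    linarith
  have hmod : Nat.card (Sylow q C) % q = 1 := by
    have h : Nat.card (Sylow q C) % q = 1 % q := card_sylow_modEq_one q C
    rwa [Nat.one_mod_eq_one.mpr hq.out.ne_one] at h
  rw [hcard, inner, List.mem_filter]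
  refine ⟨mem_divs ((hdiv.trans (Nat.div_dvd_of_dvd hqc)).trans (((Dvd.intro_left p rfl).trans ?_).trans hm)), ?_⟩
  · exact hCc ▸ Subgroup.card_subgroup_dvd_card C
  · simp [Nat.mod_eq_zero_of_dvd hdiv, hmod]

theorem pairOK_rowOf (hm : Nat.card G ∣ 175560) {p q : ℕ} (hp : p ∈ primesOf (Nat.card G))
    (hq : q ∈ primesOf (Nat.card G)) (hne : q ≠ p) : pairOK (rowOf G p) (rowOf G q) = true := by
  obtain ⟨hpp, hpd⟩ := isMember_primesOf hp
  obtain ⟨hqp, hqd⟩ := isMember_primesOf hq
  have := Fact.mk hpp
  have := Fact.mk hqp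
  have hp2 := sq_not_dvd hm hp
  have hq2 := sq_not_dvd hm hq
  set P := Classical.arbitrary (Sylow p G) with hP
  set Q := Classical.arbitrary (Sylow q G) with hQ
  simp only [pairOK, rowOf, ← hP, ← hQ, Bool.or_eq_true, bne_iff_ne, ne_eq, List.any_eq_true, beq_iff_eq]
  by_cases hqc : q ∣ cOf P
  · obtain ⟨Q', -, -, hpc⟩ := exists_centralizing hpd hp2 P hqd hq2 hne hqc
    rw [cOf_congr Q' Q] at hpc
    exact Or.inr ⟨_, card_around_mem hm hpd hp2 hqd hq2 hne P hqc, _,
      card_around_mem hm hqd hq2 hpd hp2 hne.symm Q hpc, pair_count P Q⟩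
  · exact Or.inl fun h => hqc (Nat.dvd_of_mod_eq_zero h)

/-- The order in which singular elements are counted. -/
def reorder : List Row → List Row
  | [a, b, c, d, e] => [b, c, d, e, a]
  | l => l

/-- What the surviving configurations share. -/
def goodRows : List Row → Bool
  | [a, b, c, d, e] =>
    a.2.2.1 == 10 && ([a, b, c, d, e].all fun r => r.2.2.1 % 4 != 0) &&
      decide (175560 < count (reorder [a, b, c, d, e]) + 43890 + 1) &&
      b.2.2.2 == 12 && (b.2.2.1 == 6 || b.2.2.1 == 3) &&
      (b.2.2.1 != 6 || ([c, d, e].all (fun r => r.2.2.1 == 1 || r.2.2.1 == 2) &&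
        decide (c.2.2.1 + d.2.2.1 + e.2.2.1 ≤ 4)))
  | _ => false

theorem search_good :
    ((search 175560 [19, 11, 7, 5, 3] []).all fun s =>
      !(s.all fun a => s.all fun b => a.1 == b.1 || pairOK a b) || goodRows s) = true := by
  decide +kernel

/-- The rows of a simple group of order `175560`. -/
theorem rows_good [IsSimpleGroup G] (hG : Nat.card G = 175560) :
    goodRows ([3, 5, 7, 11, 19].map (rowOf G)) = true := by
  have hps : primesOf (Nat.card G) = [19, 11, 7, 5, 3] := by rw [hG]; decide +kernel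
  have hm : Nat.card G ∣ 175560 := by rw [hG]
  have hsr := mem_search hm (by rw [hG]; norm_num) (by rw [hG]; norm_num) [19, 11, 7, 5, 3] [] (by decide)
    (fun p hp => by rw [hps]; simpa using hp)
  rw [hG] at hsr
  simp only [List.append_nil, List.map_nil] at hsr
  have hu := search_good
  rw [List.all_eq_true] at hu
  have h := hu _ hsr
  have hall : (((List.reverse [19, 11, 7, 5, 3]).map (rowOf G)).all fun a =>
      ((List.reverse [19, 11, 7, 5, 3]).map (rowOf G)).all fun b => a.1 == b.1 || pairOK a b) = true := by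
    simp only [List.all_eq_true, List.mem_map, List.mem_reverse]
    rintro a ⟨p, hp, rfl⟩ b ⟨q, hq, rfl⟩
    by_cases h : q = p
    · subst h; simp [rowOf]
    · simp only [Bool.or_eq_true]
      exact Or.inr (pairOK_rowOf hm (by rw [hps]; exact hp) (by rw [hps]; exact hq) h)
  rw [hall, Bool.not_true, Bool.false_or] at h
  exact h

end CfsgLib.Recog.J1FromOrder
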