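import Cfsg.Agent.Lib.Recog.J1FromOrder.Rows
import Mathlib

/-!
Owner: helper29. The Sylow `2`-subgroups of a simple group of order `175560` are elementary abelian and all
involutions are conjugate.
-/

set_option autoImplicit false

namespace CfsgLib.Recog.J1FromOrder

open Subgroup CfsgLib.Orders175560
open scoped Pointwise

variable {G : Type*} [Group G] [Finite G]

/-- The consequences of the arithmetic used below. -/
structure Local (G : Type*) [Group G] : Prop where
  c_three : ∀ P : Sylow 3 G, cOf P = 10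
  r_five : ∀ P : Sylow 5 G, rOf P = 12
  c_five : ∀ P : Sylow 5 G, cOf P = 6 ∨ cOf P = 3
  not_four : ∀ p ∈ ([3, 5, 7, 11, 19] : List ℕ), ∀ P : Sylow p G, ¬ 4 ∣ cOf P
  big : 175560 < count ([5, 7, 11, 19, 3].map (rowOf G)) + 43890 + 1
  small : (∀ P : Sylow 5 G, cOf P = 6) → ∀ (P : Sylow 7 G) (Q : Sylow 11 G) (R : Sylow 19 G),
    (cOf P = 1 ∨ cOf P = 2) ∧ (cOf Q = 1 ∨ cOf Q = 2) ∧ (cOf R = 1 ∨ cOf R = 2) ∧ cOf P + cOf Q + cOf R ≤ 4

theorem local_of_card [IsSimpleGroup G] (hG : Nat.card G = 175560) : Local G := by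
  have h := rows_good hG
  simp only [List.map_cons, List.map_nil, goodRows, reorder, List.all_cons, List.all_nil, Bool.and_true,
    Bool.and_eq_true, beq_iff_eq, bne_iff_ne, ne_eq, decide_eq_true_eq, Bool.or_eq_true] at h
  obtain ⟨⟨⟨⟨⟨h3, h4⟩, hbig⟩, hr⟩, h5⟩, hsm⟩ := h
  simp only [rowOf] at h3 h4 hr h5 hsm
  have f3 : Fact (Nat.Prime 3) := ⟨Nat.prime_three⟩
  have f5 : Fact (Nat.Prime 5) := ⟨by norm_num⟩
  have f7 : Fact (Nat.Prime 7) := ⟨by norm_num⟩
  have f11 : Fact (Nat.Prime 11) := ⟨by norm_num⟩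
  have f19 : Fact (Nat.Prime 19) := ⟨by norm_num⟩
  refine ⟨fun P => (cOf_congr P _).trans h3,
    fun P => (rOf_congr (by rw [hG]; norm_num) (by rw [hG]; norm_num) P _).trans hr,
    fun P => by rw [cOf_congr P (Classical.arbitrary _)]; exact h5, ?_, of_decide_eq_true hbig, fun h6 P Q R => ?_⟩
  · intro p hp P h
    simp only [List.mem_cons, List.not_mem_nil, or_false] at hp
    obtain ⟨a, b, c, d, e⟩ := h4
    rcases hp with rfl | rfl | rfl | rfl | rfl <;> rw [cOf_congr P (Classical.arbitrary _)] at h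
    · exact a (Nat.mod_eq_zero_of_dvd h)
    · exact b (Nat.mod_eq_zero_of_dvd h)
    · exact c (Nat.mod_eq_zero_of_dvd h)
    · exact d (Nat.mod_eq_zero_of_dvd h)
    · exact e (Nat.mod_eq_zero_of_dvd h)
  · have h' := hsm.resolve_left fun h => h (h6 _)
    rw [cOf_congr P (Classical.arbitrary _), cOf_congr Q (Classical.arbitrary _),
      cOf_congr R (Classical.arbitrary _)]
    obtain ⟨⟨a, b, c⟩, d⟩ := h'
    exact ⟨a, b, c, d⟩

/-- An odd prime divisor of the order of the centraliser of `u` shows in `cOf`. -/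
theorem dvd_cOf_of_centralizer {p : ℕ} [hp : Fact p.Prime] (h1 : p ∣ Nat.card G) (h2 : ¬ p * p ∣ Nat.card G)
    (u : G) (hpC : p ∣ Nat.card (centralizer ({u} : Set G))) (hcop : Nat.Coprime (orderOf u) p) :
    ∃ P : Sylow p G, orderOf u ∣ cOf P := by
  obtain ⟨x, hx⟩ := exists_prime_orderOf_dvd_card' (G := centralizer ({u} : Set G)) p hpC
  have hx' : orderOf (x : G) = p := by rwa [orderOf_coe]
  obtain ⟨P, hP⟩ := (IsPGroup.of_card (p := p) (n := 1)
    (show Nat.card (zpowers (x : G)) = p ^ 1 by rw [Nat.card_zpowers, hx', pow_one])).exists_le_sylow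
  have hPe : (P : Subgroup G) = zpowers (x : G) :=
    (eq_of_le_of_card_ge hP (by rw [Nat.card_zpowers, hx', card_sylow_eq_prime h1 h2 P])).symm
  have hu : u ∈ centralizer ((P : Subgroup G) : Set G) := by
    rw [hPe, zpowers_eq_closure, centralizer_closure, mem_centralizer_singleton_iff]
    exact (mem_centralizer_singleton_iff.1 x.2).symm
  have hd := Subgroup.orderOf_dvd_natCard _ hu
  rw [card_centralizer h1 h2 P] at hd
  exact ⟨P, hcop.dvd_of_dvd_mul_left hd⟩

section
variable [IsSimpleGroup G] (hG : Nat.card G = 175560)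
include hG

theorem not_comm : ¬ ∀ a b : G, a * b = b * a := fun h => by
  refine CfsgLib.Perm.not_comm_of_not_prime (G := G) (by rw [hG]; norm_num) ⟨⟨h⟩⟩

theorem card_sylow_two (S : Sylow 2 G) : Nat.card S = 8 := by
  have : Fact (Nat.Prime 2) := ⟨Nat.prime_two⟩
  obtain ⟨n, hn⟩ := IsPGroup.iff_card.1 S.isPGroup'
  have h8 : 2 ^ 3 ∣ Nat.card S := S.pow_dvd_card_of_pow_dvd_card (by rw [hG]; norm_num)
  rw [hn] at h8
  have hdv : 2 ^ n ∣ 175560 := hn ▸ hG ▸ Subgroup.card_subgroup_dvd_card (S : Subgroup G)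
  have h3 := (Nat.pow_dvd_pow_iff_le_right (by norm_num)).1 h8
  have : n < 4 := by
    by_contra h4
    exact absurd ((pow_dvd_pow 2 (show 4 ≤ n by omega)).trans hdv) (by norm_num)
  rw [hn, show n = 3 by omega]
  rfl

/-- No non-trivial element of an abelian Sylow `2`-subgroup is centralised by its normaliser. -/
theorem fixed_point_free (S : Sylow 2 G) (hS : ∀ a ∈ (S : Subgroup G), ∀ b ∈ (S : Subgroup G), a * b = b * a)
    (z : G) (hz : z ∈ (S : Subgroup G))
    (hfix : ∀ n ∈ normalizer ((S : Subgroup G) : Set G), n * z * n⁻¹ = z) : z = 1 := by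
  have : Fact (Nat.Prime 2) := ⟨Nat.prime_two⟩
  have hcen : ∀ a ∈ (S : Subgroup G), a ∈ centralizer ((S : Subgroup G) : Set G) :=
    fun a ha => mem_centralizer_iff.2 fun b hb => hS b hb a ha
  have key : ∀ (k : ℕ) (g : G), g⁻¹ * z ^ k * g ∈ (S : Subgroup G) → g⁻¹ * z ^ k * g = z ^ k := by
    intro k g hg
    obtain ⟨n, hn, hne⟩ := S.conj_eq_normalizer_conj_of_mem_centralizer (z ^ k) g (hcen _ (pow_mem hz k))
      (hcen _ hg)
    rw [hne]
    have h := hfix n⁻¹ (inv_mem hn)
    rw [inv_inv] at h
    calc n⁻¹ * z ^ k * n = (n⁻¹ * z * n⁻¹⁻¹) ^ k := by rw [conj_pow, inv_inv]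
      _ = z ^ k := by rw [inv_inv, h]
  have hinj : Function.Injective (Abelianization.of : (S : Subgroup G) →* Abelianization (S : Subgroup G)) := by
    rw [← MonoidHom.ker_eq_bot_iff, Abelianization.ker_of, commutator_eq_bot_iff_center_eq_top, eq_top_iff]
    intro a _
    exact mem_center_iff.2 fun b => Subtype.ext (hS b b.2 a a.2)
  set χ := MonoidHom.transfer (Abelianization.of : (S : Subgroup G) →* Abelianization (S : Subgroup G))
  have hker : χ.ker = ⊤ := by
    refine (MonoidHom.normal_ker χ).eq_bot_or_eq_top.resolve_left fun hb => not_comm hG fun a b => ?_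
    exact (MonoidHom.ker_eq_bot_iff χ).1 hb (by rw [map_mul, map_mul, mul_comm])
  have hidx : (S : Subgroup G).index = 21945 := by
    have h := (S : Subgroup G).card_mul_index
    rw [hG, card_sylow_two hG S] at h
    omega
  have h1 : χ z = 1 := MonoidHom.mem_ker.1 (hker ▸ mem_top z)
  rw [MonoidHom.transfer_eq_pow _ z key, ← map_one (Abelianization.of : (S : Subgroup G) →* _)] at h1
  have h2 : z ^ (S : Subgroup G).index = 1 := congrArg Subtype.val (hinj h1)
  have h8 : z ^ 8 = 1 := by
    have h := congrArg Subtype.val (pow_card_eq_one' (x := (⟨z, hz⟩ : (S : Subgroup G))))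
    rwa [card_sylow_two hG S] at h
  have h := pow_gcd_eq_one.2 ⟨h8, h2⟩
  rwa [hidx, show Nat.gcd 8 21945 = 1 by norm_num, pow_one] at h

theorem no_order_four (u : G) : orderOf u ≠ 4 := by
  classical
  intro hu
  have L := local_of_card hG
  have : Fact (Nat.Prime 2) := ⟨Nat.prime_two⟩
  set C := centralizer ({u} : Set G) with hC
  have hC8 : Nat.card C ∣ 8 := by
    have hd : Nat.card C ∣ 8 * 21945 := by
      have := Subgroup.card_subgroup_dvd_card C
      rwa [hG] at this
    refine Nat.Coprime.dvd_of_dvd_mul_right (Nat.coprime_of_dvd fun p hp hp1 hp2 => ?_) hd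
    have hpl : p ∈ ([3, 5, 7, 11, 19] : List ℕ) := by
      rw [show (21945 : ℕ) = 3 * 5 * 7 * 11 * 19 by norm_num] at hp2
      have e : ∀ q : ℕ, q.Prime → p ∣ q → p = q := fun q hq h => (Nat.prime_dvd_prime_iff_eq hp hq).1 h
      rcases hp.dvd_mul.1 hp2 with h | h
      · rcases hp.dvd_mul.1 h with h | h
        · rcases hp.dvd_mul.1 h with h | h
          · rcases hp.dvd_mul.1 h with h | h
            · rw [e 3 (by norm_num) h]; simp
            · rw [e 5 (by norm_num) h]; simp
          · rw [e 7 (by norm_num) h]; simp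
        · rw [e 11 (by norm_num) h]; simp
      · rw [e 19 (by norm_num) h]; simp
    have := Fact.mk hp
    have hp2' : ¬ p * p ∣ Nat.card G := by
      rw [hG]
      simp only [List.mem_cons, List.not_mem_nil, or_false] at hpl
      rcases hpl with rfl | rfl | rfl | rfl | rfl <;> norm_num
    obtain ⟨P, hP⟩ := dvd_cOf_of_centralizer (G := G) (by rw [hG]; exact hp2.trans (by norm_num)) hp2' u hp1
      (by
        rw [hu]
        refine (Nat.Coprime.pow_left 2 ((Nat.coprime_primes Nat.prime_two hp).2 ?_) : Nat.Coprime (2 ^ 2) p)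
        rintro rfl
        simp at hpl)
    exact L.not_four p hpl P (hu ▸ hP)
  have hu4 : 4 ∣ Nat.card C := hu ▸ C.orderOf_dvd_natCard (mem_centralizer_singleton_iff.2 rfl)
  obtain h4 | h8 : Nat.card C = 4 ∨ Nat.card C = 8 := by
    have := Nat.le_of_dvd (by norm_num) hC8
    interval_cases Nat.card C <;> omega
  · -- too many elements
    have hinj : Nat.card (G ⧸ C) ≤ Nat.card {g : G // orderOf g = 4} := by
      refine Nat.card_le_card_of_injective (fun q => ⟨q.out * u * q.out⁻¹, ?_⟩) fun a b h => ?_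
      · rw [← hu]; exact orderOf_injective (MulAut.conj q.out).toMonoidHom (MulAut.conj q.out).injective u
      · have h' : a.out * u * a.out⁻¹ = b.out * u * b.out⁻¹ := congrArg Subtype.val h
        rw [← QuotientGroup.out_eq' a, ← QuotientGroup.out_eq' b, QuotientGroup.eq]
        refine mem_centralizer_singleton_iff.2 ?_
        calc a.out⁻¹ * b.out * u = a.out⁻¹ * (b.out * u * b.out⁻¹) * b.out := by group
          _ = u * (a.out⁻¹ * b.out) := by rw [← h']; group
    have hidx : Nat.card (G ⧸ C) = 43890 := by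
      have h := C.card_mul_index
      rw [hG, h4] at h
      show C.index = _
      omega
    have hm : Nat.card G ∣ 175560 := by rw [hG]
    have hps : primesOf (Nat.card G) = [19, 11, 7, 5, 3] := by rw [hG]; decide +kernel
    have hle := count_le (G := G) hm [5, 7, 11, 19, 3] (by decide) (fun p hp => by rw [hps]; simp at hp ⊢; omega)
    have hdis : Nat.card {g : G // ∃ p ∈ [5, 7, 11, 19, 3], p ∣ orderOf g} +
        Nat.card {g : G // orderOf g = 4} + Nat.card {g : G // g = 1} ≤ Nat.card G := by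
      rw [← Nat.card_sum, ← Nat.card_sum]
      refine Nat.card_le_card_of_injective (Sum.elim (Sum.elim Subtype.val Subtype.val) Subtype.val) ?_
      refine Function.Injective.sumElim (Function.Injective.sumElim Subtype.val_injective Subtype.val_injective ?_)
        Subtype.val_injective ?_
      · rintro ⟨g, p, hp, hd⟩ ⟨g', hg'⟩ (rfl : g = g')
        rw [hg'] at hd
        simp only [List.mem_cons, List.not_mem_nil, or_false] at hp
        rcases hp with rfl | rfl | rfl | rfl | rfl <;> norm_num at hd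
      · rintro (⟨g, p, hp, hd⟩ | ⟨g, hg⟩) ⟨g', rfl⟩ (rfl : g = _)
        · rw [orderOf_one, Nat.dvd_one] at hd
          simp [hd] at hp
        · rw [orderOf_one] at hg
          norm_num at hg
    have h1 : Nat.card {g : G // g = 1} = 1 := Nat.card_unique
    have hb := L.big
    rw [h1, hG] at hdis
    omega
  · -- an abelian Sylow subgroup with a characteristic element
    have hpC : IsPGroup 2 C := IsPGroup.of_card (n := 3) (by rw [h8]; norm_num)
    obtain ⟨S, hS⟩ := hpC.exists_le_sylow
    have hSC : C = (S : Subgroup G) := eq_of_le_of_card_ge hS (by rw [h8, card_sylow_two hG S])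
    have hab : ∀ a ∈ (S : Subgroup G), ∀ b ∈ (S : Subgroup G), a * b = b * a := by
      rw [← hSC]
      intro a ha b hb
      have hz : zpowers (⟨u, mem_centralizer_singleton_iff.2 rfl⟩ : C) ≤ center C := by
        rw [zpowers_le, mem_center_iff]
        exact fun c => Subtype.ext (mem_centralizer_singleton_iff.1 c.2)
      have hcyc : IsCyclic (C ⧸ center C) := by
        have h := (center C).card_mul_index
        have h4' : 4 ∣ Nat.card (center C) := by
          refine dvd_trans ?_ (card_dvd_of_le hz)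
          rw [Nat.card_zpowers, Subgroup.orderOf_mk, hu]
        obtain ⟨k, hk⟩ := h4'
        rw [h8, hk] at h
        have hi : (center C).index ∣ 2 := ⟨k, by rw [mul_comm]; nlinarith⟩
        rcases (Nat.dvd_prime Nat.prime_two).1 hi with h' | h'
        · have : Subsingleton (C ⧸ center C) := (Nat.card_eq_one_iff_unique.1 h').1
          exact isCyclic_of_subsingleton
        · exact isCyclic_of_prime_card (p := 2) h'
      have hcm : ∀ a b : C, a * b = b * a :=
        commutative_of_cyclic_center_quotient (QuotientGroup.mk' (center C))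
          (by rw [QuotientGroup.ker_mk'])
      exact congrArg Subtype.val (hcm ⟨a, ha⟩ ⟨b, hb⟩)
    have hab' : ∀ a b : (S : Subgroup G), a * b = b * a := fun a b => Subtype.ext (hab a a.2 b b.2)
    let sq : (S : Subgroup G) →* (S : Subgroup G) :=
      { toFun := fun a => a * a
        map_one' := one_mul 1
        map_mul' := fun a b => by
          calc a * b * (a * b) = a * (b * a) * b := by group
            _ = a * a * (b * b) := by rw [hab' b a]; group }
    have hmul : Nat.card sq.ker * Nat.card sq.range = 8 := by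
      rw [← Subgroup.index_ker, Subgroup.card_mul_index, card_sylow_two hG S]
    have huS : u ∈ (S : Subgroup G) := hSC ▸ mem_centralizer_singleton_iff.2 rfl
    have hu2 : u * u ≠ 1 := fun h => by
      have := orderOf_dvd_of_pow_eq_one (x := u) (n := 2) (by rw [pow_two, h])
      rw [hu] at this
      norm_num at this
    have hker1 : Nat.card sq.ker ≠ 1 := by
      intro h
      have : (⟨u * u, mul_mem huS huS⟩ : (S : Subgroup G)) ∈ sq.ker := Subtype.ext (by
        show u * u * (u * u) = 1
        calc u * u * (u * u) = u ^ 4 := by simp [pow_succ, mul_assoc]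
          _ = 1 := by rw [← hu]; exact pow_orderOf_eq_one u)
      rw [Subgroup.card_eq_one.1 h, mem_bot] at this
      exact hu2 (congrArg Subtype.val this)
    have hran1 : Nat.card sq.range ≠ 1 := by
      intro h
      have : (⟨u * u, mul_mem huS huS⟩ : (S : Subgroup G)) ∈ sq.range := ⟨⟨u, huS⟩, rfl⟩
      rw [Subgroup.card_eq_one.1 h, mem_bot] at this
      exact hu2 (congrArg Subtype.val this)
    -- a subgroup of order two invariant under the normaliser
    have main : ∀ W : Subgroup (S : Subgroup G), Nat.card W = 2 →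
        (∀ n : G, ∀ hn : n ∈ normalizer ((S : Subgroup G) : Set G), ∀ w ∈ W,
          (⟨n * (w : G) * n⁻¹, (mem_normalizer_iff.1 hn _).1 w.2⟩ : (S : Subgroup G)) ∈ W) → False := by
      intro W hW hinv
      obtain ⟨z, hz1, hz⟩ := (Nat.card_eq_two_iff' (1 : W)).1 hW
      refine hz1 (Subtype.ext (Subtype.ext (fixed_point_free hG S hab ((z : (S : Subgroup G)) : G) z.1.2
        fun n hn => ?_)))
      have h := hz ⟨_, hinv n hn z.1 z.2⟩ (fun h => hz1 (Subtype.ext (Subtype.ext ?_)))
      · exact congrArg (fun w : W => ((w : (S : Subgroup G)) : G)) h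
      · have h' : n * ((z : (S : Subgroup G)) : G) * n⁻¹ = 1 :=
          congrArg (fun w : W => ((w : (S : Subgroup G)) : G)) h
        rwa [conj_eq_one_iff] at h'
    obtain hk | hr : Nat.card sq.ker = 2 ∨ Nat.card sq.range = 2 := by
      have hd : Nat.card sq.ker ∣ 8 := ⟨_, hmul.symm⟩
      have := Nat.le_of_dvd (by norm_num) hd
      interval_cases Nat.card sq.ker <;> omega
    · refine main _ hk fun n hn w hw => Subtype.ext ?_
      have hw' : (w : G) * w = 1 := congrArg Subtype.val (MonoidHom.mem_ker.1 hw)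
      show n * w * n⁻¹ * (n * w * n⁻¹) = 1
      calc _ = n * ((w : G) * w) * n⁻¹ := by group
        _ = 1 := by rw [hw']; group
    · refine main _ hr fun n hn w hw => ?_
      obtain ⟨v, rfl⟩ := hw
      refine ⟨⟨n * (v : G) * n⁻¹, (mem_normalizer_iff.1 hn _).1 v.2⟩, Subtype.ext ?_⟩
      show n * v * n⁻¹ * (n * v * n⁻¹) = n * ((v : G) * v) * n⁻¹
      group

theorem two_square (S : Sylow 2 G) (a : G) (ha : a ∈ (S : Subgroup G)) : a * a = 1 := by
  have h8 := orderOf_dvd_natCard (⟨a, ha⟩ : (S : Subgroup G))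
  rw [card_sylow_two hG S, Subgroup.orderOf_mk] at h8
  rw [← pow_two, ← orderOf_dvd_iff_pow_eq_one]
  have hcases : orderOf a = 1 ∨ orderOf a = 2 ∨ orderOf a = 4 ∨ orderOf a = 8 := by
    have := Nat.le_of_dvd (by norm_num) h8
    interval_cases orderOf a <;> omega
  rcases hcases with h | h | h | h
  · rw [h]; norm_num
  · rw [h]
  · exact absurd h (no_order_four hG a)
  · refine absurd ?_ (no_order_four hG (a ^ 2))
    rw [orderOf_pow' a two_ne_zero, h]
    rfl

theorem two_comm (S : Sylow 2 G) : ∀ a ∈ (S : Subgroup G), ∀ b ∈ (S : Subgroup G), a * b = b * a := by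
  intro a ha b hb
  have h : ∀ z ∈ (S : Subgroup G), z⁻¹ = z := fun z hz => inv_eq_of_mul_eq_one_right (two_square hG S z hz)
  calc a * b = (a * b)⁻¹ := (h _ (mul_mem ha hb)).symm
    _ = b * a := by rw [mul_inv_rev, h a ha, h b hb]

theorem involutions_conj (a b : G) (ha : orderOf a = 2) (hb : orderOf b = 2) : IsConj a b := by
  classical
  have : Fact (Nat.Prime 2) := ⟨Nat.prime_two⟩
  obtain ⟨S⟩ := (Sylow.nonempty : Nonempty (Sylow 2 G))
  have hinto : ∀ c : G, orderOf c = 2 → ∃ c' ∈ (S : Subgroup G), c' ≠ 1 ∧ IsConj c c' := by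
    intro c hc
    obtain ⟨Q, hQ⟩ := (IsPGroup.of_card (n := 1) (by rw [Nat.card_zpowers, hc, pow_one]) :
      IsPGroup 2 (zpowers c)).exists_le_sylow
    obtain ⟨g, hg⟩ := MulAction.exists_smul_eq G Q S
    refine ⟨g * c * g⁻¹, ?_, fun h => ?_, isConj_iff.2 ⟨g, rfl⟩⟩
    · rw [← hg, Sylow.coe_subgroup_smul, mem_pointwise_smul_iff_inv_smul_mem]
      simpa [MulAut.smul_def, MulAut.conj_inv_apply, mul_assoc] using hQ (mem_zpowers c)
    · rw [conj_eq_one_iff] at h
      rw [h, orderOf_one] at hc
      norm_num at hc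
  set N : Subgroup G := normalizer ((S : Subgroup G) : Set G) with hN
  letI : MulAction N G := MulAction.compHom G (MulAut.conj.comp N.subtype)
  have hsmul : ∀ (n : N) (g : G), n • g = (n : G) * g * (n : G)⁻¹ := fun n g => rfl
  have horb : ∀ z ∈ (S : Subgroup G), z ≠ 1 → 3 ≤ Nat.card (MulAction.orbit N z) := by
    intro z hz hz1
    have hodd : ¬ 2 ∣ Nat.card (MulAction.orbit N z) := by
      intro h2
      have hle : (S : Subgroup G).subgroupOf N ≤ MulAction.stabilizer N z := fun v hv => by
        show (v : G) * z * (v : G)⁻¹ = z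
        rw [two_comm hG S v hv z hz, mul_inv_cancel_right]
      have h8 := card_dvd_of_le hle
      rw [Nat.card_congr (subgroupOfEquivOfLe le_normalizer).toEquiv, card_sylow_two hG S] at h8
      have h16 : 16 ∣ Nat.card N := by
        rw [Nat.card_congr (MulAction.orbitProdStabilizerEquivGroup N z).symm, Nat.card_prod,
          show (16 : ℕ) = 2 * 8 from rfl]
        exact mul_dvd_mul h2 h8
      have := h16.trans (Subgroup.card_subgroup_dvd_card N)
      rw [hG] at this
      norm_num at this
    have hne : Nat.card (MulAction.orbit N z) ≠ 1 := by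
      intro h1
      refine hz1 (fixed_point_free hG S (two_comm hG S) z hz fun n hn => ?_)
      have hsub : Subsingleton (MulAction.orbit N z) := (Nat.card_eq_one_iff_unique.1 h1).1
      exact congrArg Subtype.val (@Subsingleton.elim _ hsub ⟨_, MulAction.mem_orbit z (⟨n, hn⟩ : N)⟩
        ⟨z, MulAction.mem_orbit_self z⟩)
    omega
  set T : Set G := {z | z ∈ (S : Subgroup G) ∧ z ≠ 1} with hT
  have hT7 : Nat.card T = 7 := by
    have h : Nat.card T = Nat.card {g : (S : Subgroup G) // g ≠ 1} :=
      Nat.card_congr ⟨fun g => ⟨⟨g.1, g.2.1⟩, fun h => g.2.2 (congrArg Subtype.val h)⟩,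
        fun g => ⟨g.1.1, g.1.2, fun h => g.2 (Subtype.ext h)⟩, fun _ => rfl, fun _ => rfl⟩
    rw [h]
    have := Fintype.ofFinite (S : Subgroup G)
    rw [Nat.card_eq_fintype_card, Fintype.card_subtype_compl, Fintype.card_subtype_eq, ← Nat.card_eq_fintype_card,
      card_sylow_two hG S]
  have horbT : ∀ z ∈ T, MulAction.orbit N z ⊆ T := by
    rintro z hz _ ⟨n, rfl⟩
    refine ⟨(mem_normalizer_iff.1 n.2 z).1 hz.1, fun h => hz.2 ?_⟩
    exact conj_eq_one_iff.1 (h : (n : G) * z * (n : G)⁻¹ = 1)
  obtain ⟨a', haS, ha1, haa⟩ := hinto a ha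
  obtain ⟨b', hbS, hb1, hbb⟩ := hinto b hb
  by_cases hsame : b' ∈ MulAction.orbit N a'
  · obtain ⟨n, hn⟩ := hsame
    exact (haa.trans (isConj_iff.2 ⟨(n : G), hn⟩)).trans hbb.symm
  · exfalso
    have hdis : Disjoint (MulAction.orbit N a') (MulAction.orbit N b') :=
      Set.disjoint_left.2 fun z hz1 hz2 => hsame ((MulAction.orbit_eq_iff.2 hz1).symm.trans
        (MulAction.orbit_eq_iff.2 hz2) ▸ MulAction.mem_orbit_self b')
    set U := MulAction.orbit N a' ∪ MulAction.orbit N b' with hU
    have hUT : U ⊆ T := Set.union_subset (horbT a' ⟨haS, ha1⟩) (horbT b' ⟨hbS, hb1⟩)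
    have hcard : Nat.card U = Nat.card (MulAction.orbit N a') + Nat.card (MulAction.orbit N b') := by
      rw [hU, Nat.card_coe_set_eq, Nat.card_coe_set_eq, Nat.card_coe_set_eq]
      exact Set.ncard_union_eq hdis (Set.toFinite _) (Set.toFinite _)
    have hlt : ∀ z ∈ T, z ∈ U := by
      intro z hz
      by_contra hzU
      have hd2 : Disjoint U (MulAction.orbit N z) := Set.disjoint_left.2 fun w hw1 hw2 => by
        rcases hw1 with hw1 | hw1
        · exact hzU (Or.inl ((MulAction.orbit_eq_iff.2 hw2).symm.trans (MulAction.orbit_eq_iff.2 hw1) ▸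
            MulAction.mem_orbit_self z))
        · exact hzU (Or.inr ((MulAction.orbit_eq_iff.2 hw2).symm.trans (MulAction.orbit_eq_iff.2 hw1) ▸
            MulAction.mem_orbit_self z))
      have h3 := Set.ncard_le_ncard (Set.union_subset hUT (horbT z hz)) (Set.toFinite _)
      rw [Set.ncard_union_eq hd2 (Set.toFinite _) (Set.toFinite _), ← Nat.card_coe_set_eq, ← Nat.card_coe_set_eq,
        ← Nat.card_coe_set_eq, hcard, hT7] at h3
      have := horb a' haS ha1
      have := horb b' hbS hb1
      have := horb z hz.1 hz.2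
      omega
    have hev : ∀ z : G, z ∈ (S : Subgroup G) → z ≠ 1 → ¬ 2 ∣ Nat.card (MulAction.orbit N z) := by
      intro z hz hz1 h2
      have hle : (S : Subgroup G).subgroupOf N ≤ MulAction.stabilizer N z := fun v hv => by
        show (v : G) * z * (v : G)⁻¹ = z
        rw [two_comm hG S v hv z hz, mul_inv_cancel_right]
      have h8 := card_dvd_of_le hle
      rw [Nat.card_congr (subgroupOfEquivOfLe le_normalizer).toEquiv, card_sylow_two hG S] at h8
      have h16 : 16 ∣ Nat.card N := by
        rw [Nat.card_congr (MulAction.orbitProdStabilizerEquivGroup N z).symm, Nat.card_prod,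
          show (16 : ℕ) = 2 * 8 from rfl]
        exact mul_dvd_mul h2 h8
      have := h16.trans (Subgroup.card_subgroup_dvd_card N)
      rw [hG] at this
      norm_num at this
    have hUe : U = T := Set.Subset.antisymm hUT hlt
    rw [hUe, hT7] at hcard
    have := hev a' haS ha1
    have := hev b' hbS hb1
    omega

theorem cOf_five (P : Sylow 5 G) : cOf P = 6 := by
  have L := local_of_card hG
  refine (L.c_five P).resolve_right fun h3 => ?_
  have : Fact (Nat.Prime 5) := ⟨by norm_num⟩
  have : Fact (Nat.Prime 2) := ⟨Nat.prime_two⟩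
  have h1 : 5 ∣ Nat.card G := by rw [hG]; norm_num
  have h2 : ¬ 5 * 5 ∣ Nat.card G := by rw [hG]; norm_num
  set N := normalizer ((P : Subgroup G) : Set G) with hN
  obtain ⟨Q, hQ⟩ := Sylow.exists_subgroup_card_pow_prime (G := N) 2 (n := 2)
    (by rw [hN, card_normalizer h1 h2 P, L.r_five P]; norm_num)
  obtain ⟨x, hx⟩ := exists_prime_orderOf_dvd_card' (G := (P : Subgroup G)) 5
    (by rw [card_sylow_eq_prime h1 h2 P])
  have hxo : orderOf (x : G) = 5 := by rwa [orderOf_coe]
  have hPz : (P : Subgroup G) = zpowers (x : G) :=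
    (eq_of_le_of_card_ge (zpowers_le.2 x.2) (by rw [Nat.card_zpowers, hxo, card_sylow_eq_prime h1 h2 P])).symm
  have hsq : ∀ y : Q, ((y : N) : G) * ((y : N) : G) = 1 := fun y => by
    have h4 : ((y : N) : G) ^ 4 = 1 := by
      have h := congrArg (fun z : Q => ((z : N) : G)) (pow_card_eq_one' (x := y))
      simpa [hQ] using h
    obtain ⟨j, -, hj⟩ := (Nat.dvd_prime_pow Nat.prime_two).1
      (show orderOf ((y : N) : G) ∣ 2 ^ 2 from orderOf_dvd_of_pow_eq_one h4)
    obtain ⟨S, hS⟩ := (IsPGroup.of_card (n := j) (by rw [Nat.card_zpowers, hj]) :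
      IsPGroup 2 (zpowers ((y : N) : G))).exists_le_sylow
    exact two_square hG S _ (hS (mem_zpowers _))
  have hconj : ∀ y : Q, ((y : N) : G) * x * ((y : N) : G)⁻¹ = x ∨
      ((y : N) : G) * x * ((y : N) : G)⁻¹ = (x : G)⁻¹ := by
    intro y
    have hm : ((y : N) : G) * x * ((y : N) : G)⁻¹ ∈ zpowers (x : G) := hPz ▸ (mem_normalizer_iff.1 y.1.2 _).1 x.2
    rw [← mem_powers_iff_mem_zpowers, Submonoid.mem_powers_iff] at hm
    obtain ⟨i, hi⟩ := hm
    set g := ((y : N) : G)
    have hg : g⁻¹ = g := inv_eq_of_mul_eq_one_right (hsq y)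
    have h' : (x : G) ^ (i * i) = (x : G) ^ 1 := by
      rw [pow_one, pow_mul, hi, conj_pow, hi, hg]
      calc g * (g * (x : G) * g) * g = (g * g) * x * (g * g) := by group
        _ = x := by rw [hsq y, one_mul, mul_one]
    rw [pow_eq_pow_iff_modEq, hxo] at h'
    have key : ∀ r < 5, r * r % 5 = 1 → r = 1 ∨ r = 4 := by decide
    rw [← pow_mod_orderOf, hxo] at hi
    rcases key (i % 5) (Nat.mod_lt _ (by norm_num)) (by rw [← Nat.mul_mod]; exact h') with h | h <;> rw [h] at hi
    · exact Or.inl (by rw [← hi, pow_one])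
    · refine Or.inr (hi.symm.trans (eq_inv_of_mul_eq_one_left ?_))
      rw [← pow_succ]
      exact orderOf_dvd_iff_pow_eq_one.1 (dvd_of_eq hxo)
  obtain ⟨y, hy1, hy⟩ : ∃ y : Q, y ≠ 1 ∧ ((y : N) : G) * x * ((y : N) : G)⁻¹ = x := by
    by_contra hno
    push Not at hno
    obtain ⟨a, ha⟩ : ∃ a : Q, a ≠ 1 := by
      by_contra h; push Not at h
      have : Subsingleton Q := ⟨fun a b => (h a).trans (h b).symm⟩
      rw [Nat.card_unique] at hQ
      norm_num at hQ
    obtain ⟨b, hb, hba⟩ : ∃ b : Q, b ≠ 1 ∧ b ≠ a := by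
      by_contra h; push Not at h
      classical
      have := Fintype.ofFinite Q
      have hle : (Finset.univ : Finset Q) ⊆ {1, a} := fun q _ => by
        by_cases hq : q = 1
        · simp [hq]
        · simp [h q hq]
      have := (Finset.card_le_card hle).trans Finset.card_le_two
      rw [Finset.card_univ, ← Nat.card_eq_fintype_card, hQ] at this
      norm_num at this
    have hab1 : a * b ≠ 1 := fun h => hba (by
      have ha2 : a * a = 1 := Subtype.ext (Subtype.ext (hsq a))
      exact (mul_left_cancel (ha2.trans h.symm)).symm)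
    have h' : (((a * b : Q) : N) : G) * x * (((a * b : Q) : N) : G)⁻¹ = x := by
      push_cast
      calc ((a : N) : G) * ((b : N) : G) * x * (((a : N) : G) * ((b : N) : G))⁻¹
          = ((a : N) : G) * (((b : N) : G) * x * ((b : N) : G)⁻¹) * ((a : N) : G)⁻¹ := by group
        _ = ((a : N) : G) * (x : G)⁻¹ * ((a : N) : G)⁻¹ := by rw [(hconj b).resolve_left (hno b hb)]
        _ = (((a : N) : G) * x * ((a : N) : G)⁻¹)⁻¹ := by group
        _ = x := by rw [(hconj a).resolve_left (hno a ha), inv_inv]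
    exact hno _ hab1 h'
  have hyo : orderOf ((y : N) : G) = 2 := orderOf_eq_prime (by rw [pow_two]; exact hsq y)
    fun h => hy1 (Subtype.ext (Subtype.ext h))
  have hyC : ((y : N) : G) ∈ centralizer ((P : Subgroup G) : Set G) := by
    rw [hPz, zpowers_eq_closure, centralizer_closure, mem_centralizer_singleton_iff]
    exact mul_inv_eq_iff_eq_mul.1 hy
  have hd := Subgroup.orderOf_dvd_natCard _ hyC
  rw [hyo, card_centralizer h1 h2 P, h3] at hd
  norm_num at hd

end

end CfsgLib.Recog.J1FromOrder
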